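import Groth.Agent.RelFP.Scheme
import Groth.Agent.QCoh.DevissageSum

/-!
# Permanence of relative finite presentation
-/

universe u

set_option backward.isDefEq.respectTransparency false
set_option backward.isDefEq.respectTransparency.types false

open CategoryTheory CategoryTheory.Limits AlgebraicGeometry TopologicalSpace Opposite

namespace Groth.Agent.RelFP

variable {X S : Scheme.{u}}

/-- The map on sections, linear over a presenting ring. -/
noncomputable def appLin {M N : X.Modules} (φ : M ⟶ N) (U : X.Opens) :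
    Γ(M, U) →ₗ[Γ(X, U)] Γ(N, U) :=
  { toFun := φ.app U, map_add' := map_add (φ.app U).hom, map_smul' := fun r x => φ.app_smul r x }

theorem relFPOn_of_shortExact (f : X ⟶ S) [LocallyOfFiniteType f] {E : ShortComplex X.Modules} (hE : E.ShortExact)
    (h1 : Coh.IsQCoh E.X₁) (h2 : Coh.IsQCoh E.X₂) (h3 : Coh.IsQCoh E.X₃)
    (U : X.affineOpens) (V : S.affineOpens) (h : (U : X.Opens) ≤ f ⁻¹ᵁ V.1) :
    (Flatn.RelFPOn f E.X₁ U V h → Flatn.RelFPOn f E.X₃ U V h → Flatn.RelFPOn f E.X₂ U V h) ∧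
    (Module.Finite Γ(X, U.1) Γ(E.X₁, U.1) → Flatn.RelFPOn f E.X₂ U V h → Flatn.RelFPOn f E.X₃ U V h) := by
  letI := (f.appLE V.1 U.1 h).hom.toAlgebra
  haveI : Algebra.FiniteType Γ(S, V.1) Γ(X, U.1) := f.finiteType_appLE V.2 U.2 h
  obtain ⟨n, φ, hφ⟩ := Algebra.FiniteType.iff_quotient_mvPolynomial''.1 ‹Algebra.FiniteType Γ(S, V.1) Γ(X, U.1)›
  haveI := hE.mono_f
  haveI := hE.epi_g
  letI : Algebra (MvPolynomial (Fin n) Γ(S, V.1)) Γ(X, U.1) := φ.toRingHom.toAlgebra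
  letI := Module.compHom Γ(E.X₁, U.1) φ.toRingHom
  letI := Module.compHom Γ(E.X₂, U.1) φ.toRingHom
  letI := Module.compHom Γ(E.X₃, U.1) φ.toRingHom
  haveI : IsScalarTower (MvPolynomial (Fin n) Γ(S, V.1)) Γ(X, U.1) Γ(E.X₁, U.1) :=
    IsScalarTower.of_algebraMap_smul fun _ _ => rfl
  haveI : IsScalarTower (MvPolynomial (Fin n) Γ(S, V.1)) Γ(X, U.1) Γ(E.X₂, U.1) :=
    IsScalarTower.of_algebraMap_smul fun _ _ => rfl
  haveI : IsScalarTower (MvPolynomial (Fin n) Γ(S, V.1)) Γ(X, U.1) Γ(E.X₃, U.1) :=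
    IsScalarTower.of_algebraMap_smul fun _ _ => rfl
  have e : ∀ (M : X.Modules), Flatn.RelFPOn f M U V h ↔ FPVia φ.toRingHom Γ(M, U.1) := fun M =>
    rel_iff φ (RingHom.Finite.of_surjective _ hφ)
  rw [e, e, e]
  let a := (appLin E.f U.1).restrictScalars (MvPolynomial (Fin n) Γ(S, V.1))
  let b := (appLin E.g U.1).restrictScalars (MvPolynomial (Fin n) Γ(S, V.1))
  have hb : Function.Surjective b := QCoh.app_surjective_of_epi h2 h3 E.g U.2
  have ha : Function.Injective a := QCoh.app_injective E.f U.1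
  have hab : LinearMap.ker b = LinearMap.range a := by
    ext x
    constructor
    · intro hx
      obtain ⟨w, hw⟩ := QCoh.exists_app_f_eq hE U.1 x hx
      exact ⟨w, hw⟩
    · rintro ⟨w, rfl⟩
      exact congr($(E.zero).app U.1 w)
  refine ⟨fun p1 p3 => ?_, fun hfin p2 => ?_⟩
  · haveI : Module.FinitePresentation (MvPolynomial (Fin n) Γ(S, V.1)) Γ(E.X₁, U.1) := p1
    haveI : Module.FinitePresentation (MvPolynomial (Fin n) Γ(S, V.1)) Γ(E.X₃, U.1) := p3
    haveI : Module.FinitePresentation (MvPolynomial (Fin n) Γ(S, V.1)) (LinearMap.ker b) :=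
      Module.FinitePresentation.of_equiv ((LinearEquiv.ofInjective a ha).trans (LinearEquiv.ofEq _ _ hab.symm))
    exact Module.finitePresentation_of_ker b hb
  · haveI : Module.FinitePresentation (MvPolynomial (Fin n) Γ(S, V.1)) Γ(E.X₂, U.1) := p2
    haveI : Module.Finite (MvPolynomial (Fin n) Γ(S, V.1)) Γ(X, U.1) :=
      Module.Finite.of_surjective (Algebra.linearMap _ Γ(X, U.1)) hφ
    haveI : Module.Finite (MvPolynomial (Fin n) Γ(S, V.1)) Γ(E.X₁, U.1) := Module.Finite.trans Γ(X, U.1) _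
    exact Module.finitePresentation_of_surjective b hb
      (by rw [hab]; exact Submodule.fg_range a)

theorem isRelFP_iff_forall (f : X ⟶ S) [LocallyOfFiniteType f] (F : X.Modules) (hF : Coh.IsQCoh F) :
    Flatn.IsRelFP f F ↔ ∀ (U : X.affineOpens) (V : S.affineOpens) (h : (U : X.Opens) ≤ f ⁻¹ᵁ V.1),
      Flatn.RelFPOn f F U V h :=
  ⟨fun hP => relFPOn_of_isRelFP (hF := hF) hP, fun hP => isRelFP_of_forall hP⟩

/-- Relative finite presentation of a direct image by a finite morphism. -/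
theorem relFPOn_push_iff {Y : Scheme.{u}} (π : X ⟶ Y) (g : Y ⟶ S) [IsFinite π] [LocallyOfFiniteType g]
    (F : X.Modules) (U : Y.affineOpens) (V : S.affineOpens) (h : (U : Y.Opens) ≤ g ⁻¹ᵁ V.1) :
    Flatn.RelFPOn (π ≫ g) F ⟨π ⁻¹ᵁ U.1, U.2.preimage π⟩ V (π.preimage_mono h) ↔
      Flatn.RelFPOn g ((Coh.push π).obj F) U V h := by
  letI := (g.appLE V.1 U.1 h).hom.toAlgebra
  letI := ((π ≫ g).appLE V.1 (π ⁻¹ᵁ U.1) (π.preimage_mono h)).hom.toAlgebra
  haveI : Algebra.FiniteType Γ(S, V.1) Γ(Y, U.1) := g.finiteType_appLE V.2 U.2 h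
  haveI : Algebra.FiniteType Γ(S, V.1) Γ(X, π ⁻¹ᵁ U.1) := (π ≫ g).finiteType_appLE V.2 (U.2.preimage π) _
  let p : Γ(Y, U.1) →ₐ[Γ(S, V.1)] Γ(X, π ⁻¹ᵁ U.1) :=
    { (π.app U.1).hom with
      commutes' := fun r => by
        show (g.appLE V.1 U.1 h ≫ π.app U.1) r = _
        rw [Scheme.Hom.app_eq_appLE, Scheme.Hom.appLE_comp_appLE]; rfl }
  obtain ⟨n, φ, hφ⟩ := Algebra.FiniteType.iff_quotient_mvPolynomial''.1 ‹Algebra.FiniteType Γ(S, V.1) Γ(Y, U.1)›
  refine (rel_iff (p.comp φ) ((π.finite_app U.1 U.2).comp (RingHom.Finite.of_surjective _ hφ))).trans ?_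
  exact (rel_iff (N := Γ((Coh.push π).obj F, U.1)) φ (RingHom.Finite.of_surjective _ hφ)).symm

/-- Relative finite presentation along a base of finite presentation. -/
theorem relFPOn_comp_iff {Y : Scheme.{u}} (f : X ⟶ Y) (g : Y ⟶ S) [LocallyOfFiniteType f]
    [LocallyOfFinitePresentation g] (F : X.Modules) (U : X.affineOpens) (W : Y.affineOpens) (V : S.affineOpens)
    (h : (U : X.Opens) ≤ f ⁻¹ᵁ W.1) (h' : (W : Y.Opens) ≤ g ⁻¹ᵁ V.1) :
    Flatn.RelFPOn (f ≫ g) F U V (h.trans (f.preimage_mono h')) ↔ Flatn.RelFPOn f F U W h := by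
  letI := (g.appLE V.1 W.1 h').hom.toAlgebra
  letI := ((f ≫ g).appLE V.1 U.1 (h.trans (f.preimage_mono h'))).hom.toAlgebra
  letI := (f.appLE W.1 U.1 h).hom.toAlgebra
  haveI : Algebra.FinitePresentation Γ(S, V.1) Γ(Y, W.1) := g.finitePresentation_appLE V.2 W.2 h'
  haveI : Algebra.FiniteType Γ(S, V.1) Γ(X, U.1) := (f ≫ g).finiteType_appLE V.2 U.2 _
  haveI : IsScalarTower Γ(S, V.1) Γ(Y, W.1) Γ(X, U.1) := IsScalarTower.of_algebraMap_eq fun r => by
    show _ = (g.appLE V.1 W.1 h' ≫ f.appLE W.1 U.1 h) r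
    rw [Scheme.Hom.appLE_comp_appLE]; rfl
  exact rel_iff_of_finitePresentation Γ(Y, W.1)

end Groth.Agent.RelFP
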