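import Mathlib

/-! Modules of finite presentation relative to a base ring. -/

universe u

open TensorProduct

namespace Groth.Agent.RelFP

/-- `M` is finitely presented over the source of `p` acting through `p`. -/
def FPVia {P A : Type*} [Semiring P] [Semiring A] (p : P →+* A) (M : Type*) [AddCommMonoid M] [Module A M] :
    Prop :=
  @Module.FinitePresentation P M _ _ (Module.compHom M p)

theorem fpVia_iff {P A : Type*} [CommRing P] [CommRing A] [Algebra P A] (M : Type*) [AddCommGroup M]
    [Module A M] [Module P M] [IsScalarTower P A M] :
    FPVia (algebraMap P A) M ↔ Module.FinitePresentation P M := by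
  have h : (Module.compHom M (algebraMap P A) : Module P M) = ‹Module P M› :=
    Module.ext' _ _ fun r m => algebraMap_smul A r m
  unfold FPVia
  rw [h]

theorem fpVia_congr {P A : Type*} [CommRing P] [CommRing A] {p p' : P →+* A} (h : ∀ x, p x = p' x)
    (M : Type*) [AddCommGroup M] [Module A M] : FPVia p M ↔ FPVia p' M := by
  rw [RingHom.ext h]

/-- restricting along an algebra map that is compatible with the actions does not change anything -/
theorem fpVia_comp {P A B : Type*} [CommRing P] [CommRing A] [CommRing B] [Algebra A B] (p : P →+* A)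
    (M : Type*) [AddCommGroup M] [Module A M] [Module B M] [IsScalarTower A B M] :
    FPVia p M ↔ FPVia ((algebraMap A B).comp p) M := by
  have h : (Module.compHom M p : Module P M) = Module.compHom M ((algebraMap A B).comp p) :=
    Module.ext' _ _ fun r m => (algebraMap_smul B (p r) m).symm
  unfold FPVia
  rw [h]

theorem of_restrictScalars (P : Type*) (T : Type*) (M : Type*) [CommRing P] [CommRing T] [Algebra P T]
    [AddCommGroup M] [Module T M] [Module P M] [IsScalarTower P T M] [Module.Finite P T]
    [Module.FinitePresentation P M] : Module.FinitePresentation T M := by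
  haveI : Module.Finite T M := Module.Finite.of_restrictScalars_finite P T M
  obtain ⟨m, f, hf⟩ := Module.Finite.exists_fin' T M
  refine Module.finitePresentation_of_surjective f hf ?_
  apply Submodule.FG.of_restrictScalars P
  exact Module.FinitePresentation.fg_ker (f.restrictScalars P) hf

theorem of_surjective_algebraMap (P : Type*) (A : Type*) (M : Type*) [CommRing P] [CommRing A] [Algebra P A]
    [AddCommGroup M] [Module A M] [Module P M] [IsScalarTower P A M]
    (h : Function.Surjective (algebraMap P A)) [Module.FinitePresentation P M] :
    Module.FinitePresentation A M := by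
  haveI : Module.Finite P A := Module.Finite.of_surjective (Algebra.linearMap P A) h
  exact of_restrictScalars P A M

/-- the key lemma -/
theorem iff_of_algebra (P T A : Type*) (M : Type*) [CommRing P] [CommRing T] [CommRing A] [Algebra P T]
    [Algebra T A] [Algebra P A] [IsScalarTower P T A] [Algebra.FinitePresentation P T] [Module.Finite P A]
    [AddCommGroup M] [Module A M] [Module T M] [Module P M] [IsScalarTower T A M] [IsScalarTower P A M] :
    Module.FinitePresentation P M ↔ Module.FinitePresentation T M := by
  classical
  obtain ⟨s, hs⟩ : (⊤ : Subalgebra P T).FG := Algebra.FiniteType.out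
  choose f hfm hf using fun y : s => (Algebra.IsIntegral.isIntegral (R := P) (algebraMap T A y))
  let J : Ideal T := Ideal.span (Set.range fun y : s => Polynomial.aeval (y : T) (f y))
  have hJfg : J.FG := Submodule.fg_span (Set.finite_range _)
  have hJker : ∀ t ∈ J, algebraMap T A t = 0 := by
    intro t ht
    have : J ≤ RingHom.ker (algebraMap T A) := by
      refine Ideal.span_le.mpr ?_
      rintro _ ⟨y, rfl⟩
      simp only [SetLike.mem_coe, RingHom.mem_ker]
      rw [← Polynomial.aeval_algebraMap_apply]
      exact hf y
    exact this ht
  haveI : Algebra.FinitePresentation P (T ⧸ J) := Algebra.FinitePresentation.quotient hJfg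
  haveI : Module.Finite P (T ⧸ J) := by
    have hint : ∀ x : T ⧸ J, IsIntegral P x := by
      have : (⊤ : Subalgebra P (T ⧸ J)) ≤ integralClosure P (T ⧸ J) := by
        have e : (⊤ : Subalgebra P (T ⧸ J)) = (Algebra.adjoin P (s : Set T)).map (Ideal.Quotient.mkₐ P J) := by
          rw [hs, Algebra.map_top, eq_comm, AlgHom.range_eq_top]
          exact Ideal.Quotient.mkₐ_surjective P J
        rw [e, AlgHom.map_adjoin, Algebra.adjoin_le_iff]
        rintro _ ⟨y, hy, rfl⟩
        refine ⟨f ⟨y, hy⟩, hfm _, ?_⟩
        rw [← Polynomial.aeval_def, Polynomial.aeval_algHom_apply, Ideal.Quotient.mkₐ_eq_mk,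
          Ideal.Quotient.eq_zero_iff_mem]
        exact Ideal.subset_span ⟨⟨y, hy⟩, rfl⟩
      exact fun x => this Algebra.mem_top
    haveI : Algebra.IsIntegral P (T ⧸ J) := ⟨hint⟩
    exact Algebra.IsIntegral.finite
  haveI hPJ : Module.FinitePresentation P (T ⧸ J) := Module.FinitePresentation.of_finite_of_finitePresentation P (T ⧸ J)
  haveI hTJ : Module.FinitePresentation T (T ⧸ J) := by
    refine Module.finitePresentation_of_surjective (Algebra.linearMap T (T ⧸ J)) Ideal.Quotient.mk_surjective ?_
    have e : LinearMap.ker (Algebra.linearMap T (T ⧸ J)) = J := by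
      ext t
      rw [LinearMap.mem_ker, Algebra.linearMap_apply, Ideal.Quotient.algebraMap_eq, Ideal.Quotient.eq_zero_iff_mem]
    rw [e]
    exact hJfg
  let φ : T ⧸ J →+* A := Ideal.Quotient.lift J (algebraMap T A) hJker
  letI : Module (T ⧸ J) M := Module.compHom M φ
  haveI : IsScalarTower T (T ⧸ J) M := IsScalarTower.of_algebraMap_smul fun t m => by
    show φ (Ideal.Quotient.mk J t) • m = t • m
    exact algebraMap_smul A t m
  haveI : IsScalarTower P (T ⧸ J) M := IsScalarTower.of_algebraMap_smul fun p m => by
    show φ (algebraMap P (T ⧸ J) p) • m = p • m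
    rw [IsScalarTower.algebraMap_apply P T (T ⧸ J)]
    show algebraMap T A (algebraMap P T p) • m = p • m
    rw [← IsScalarTower.algebraMap_apply P T A]
    exact algebraMap_smul A p m
  constructor
  · intro h
    haveI := of_restrictScalars P (T ⧸ J) M
    exact Module.FinitePresentation.trans T M (T ⧸ J)
  · intro h
    haveI := of_surjective_algebraMap T (T ⧸ J) M Ideal.Quotient.mk_surjective
    exact Module.FinitePresentation.trans P M (T ⧸ J)

theorem fpVia_iff_of_finitePresentation {P T A : Type*} [CommRing P] [CommRing T] [CommRing A]
    (φ : P →+* T) (hφ : φ.FinitePresentation) (t : T →+* A) (h : (t.comp φ).Finite)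
    (M : Type*) [AddCommGroup M] [Module A M] :
    FPVia (t.comp φ) M ↔ FPVia t M := by
  algebraize [φ, t, t.comp φ]
  letI : Module T M := Module.compHom M t
  letI : Module P M := Module.compHom M (t.comp φ)
  haveI : IsScalarTower T A M := IsScalarTower.of_algebraMap_smul fun _ _ => rfl
  haveI : IsScalarTower P A M := IsScalarTower.of_algebraMap_smul fun _ _ => rfl
  exact iff_of_algebra P T A M

/-- independence of the presentation -/
theorem fpVia_indep {R P Q A : Type*} [CommRing R] [CommRing P] [CommRing Q] [CommRing A]
    [Algebra R P] [Algebra R Q] [Algebra R A] [Algebra.FinitePresentation R P] [Algebra.FinitePresentation R Q]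
    (p : P →ₐ[R] A) (q : Q →ₐ[R] A) (hp : p.toRingHom.Finite) (hq : q.toRingHom.Finite)
    (M : Type*) [AddCommGroup M] [Module A M] :
    FPVia p.toRingHom M ↔ FPVia q.toRingHom M := by
  let t : P ⊗[R] Q →ₐ[R] A := Algebra.TensorProduct.productMap p q
  let iP : P →ₐ[R] P ⊗[R] Q := Algebra.TensorProduct.includeLeft
  let iQ : Q →ₐ[R] P ⊗[R] Q := Algebra.TensorProduct.includeRight
  have hT : Algebra.FinitePresentation R (P ⊗[R] Q) :=
    Algebra.FinitePresentation.trans R P (P ⊗[R] Q)
  have hiP : iP.toRingHom.FinitePresentation := by
    have e : iP.toRingHom = algebraMap P (P ⊗[R] Q) := rfl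
    rw [e, RingHom.finitePresentation_algebraMap]
    infer_instance
  have hiQ : iQ.toRingHom.FinitePresentation := by
    let c : Q ⊗[R] P ≃+* P ⊗[R] Q := (Algebra.TensorProduct.comm R Q P).toRingEquiv
    have e : iQ.toRingHom = c.toRingHom.comp (algebraMap Q (Q ⊗[R] P)) := RingHom.ext fun x => rfl
    rw [e]
    have hc : (RingHom.ker c.toRingHom).FG := by
      have : RingHom.ker c.toRingHom = ⊥ := (RingHom.injective_iff_ker_eq_bot c.toRingHom).mp c.injective
      rw [this]
      exact Submodule.fg_bot
    exact (RingHom.FinitePresentation.of_surjective c.toRingHom c.surjective hc).comp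
      (RingHom.finitePresentation_algebraMap.mpr inferInstance)
  have e1 : t.toRingHom.comp iP.toRingHom = p.toRingHom := RingHom.ext fun x => by simp [t, iP]
  have e2 : t.toRingHom.comp iQ.toRingHom = q.toRingHom := RingHom.ext fun x => by simp [t, iQ]
  rw [← e1, ← e2, fpVia_iff_of_finitePresentation _ hiP _ (e1 ▸ hp),
    fpVia_iff_of_finitePresentation _ hiQ _ (e2 ▸ hq)]

theorem compatibleSMul_of_surjective (P A M N : Type*) [CommRing P] [CommRing A] [Algebra P A]
    [AddCommGroup M] [Module A M] [Module P M] [IsScalarTower P A M]
    [AddCommGroup N] [Module A N] [Module P N] [IsScalarTower P A N]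
    (h : Function.Surjective (algebraMap P A)) : TensorProduct.CompatibleSMul P A M N := by
  refine ⟨fun a m n => ?_⟩
  obtain ⟨x, rfl⟩ := h a
  rw [algebraMap_smul, algebraMap_smul, TensorProduct.smul_tmul]

/-- base change along an algebra of finite presentation -/
theorem fp_baseChange (P T A A' : Type*) (M : Type*) [CommRing P] [CommRing T] [CommRing A] [CommRing A']
    [Algebra P A] [Algebra P T] [Algebra A A'] [Algebra T A'] [Algebra P A']
    [IsScalarTower P A A'] [IsScalarTower P T A']
    (hPA : Function.Surjective (algebraMap P A)) (hTA' : Function.Surjective (algebraMap T A'))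
    (J : Ideal T) (hJ : J.FG)
    (hker : RingHom.ker (algebraMap T A') = J ⊔ (RingHom.ker (algebraMap P A)).map (algebraMap P T))
    [AddCommGroup M] [Module A M] [Module P M] [IsScalarTower P A M] [Module.FinitePresentation P M] :
    FPVia (algebraMap T A') (A' ⊗[A] M) := by
  haveI : Module.FinitePresentation T (T ⊗[P] M) := inferInstance
  let s : T →ₗ[T] A' := Algebra.linearMap T A'
  let Φ : T ⊗[P] M →ₗ[T] A' ⊗[P] M := TensorProduct.AlgebraTensorModule.rTensor P M s
  have hΦ : Function.Surjective Φ := LinearMap.rTensor_surjective M (g := s.restrictScalars P) hTA'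
  have hkerΦ : LinearMap.ker Φ = J • ⊤ := by
    apply le_antisymm
    · intro z hz
      have hex : Function.Exact ((LinearMap.ker (s.restrictScalars P)).subtype.rTensor M)
          ((s.restrictScalars P).rTensor M) :=
        rTensor_exact M (LinearMap.exact_subtype_ker_map _) hTA'
      obtain ⟨w, rfl⟩ := (hex z).mp hz
      induction w using TensorProduct.induction_on with
      | zero => rw [map_zero]; exact zero_mem _
      | add a b ha hb =>
        rw [map_add]
        exact add_mem (ha (by
          show ((s.restrictScalars P).rTensor M) _ = 0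
          exact (hex _).mpr ⟨_, rfl⟩)) (hb (by
          show ((s.restrictScalars P).rTensor M) _ = 0
          exact (hex _).mpr ⟨_, rfl⟩))
      | tmul j m =>
        rw [LinearMap.rTensor_tmul]
        have hj : (j : T) ∈ J ⊔ (RingHom.ker (algebraMap P A)).map (algebraMap P T) := by
          rw [← hker]; exact j.2
        obtain ⟨a, ha, b, hb, hab⟩ := Submodule.mem_sup.mp hj
        show (j : T) ⊗ₜ[P] m ∈ J • (⊤ : Submodule T (T ⊗[P] M))
        rw [← hab, TensorProduct.add_tmul]
        refine add_mem ?_ ?_
        · have : a ⊗ₜ[P] m = a • ((1 : T) ⊗ₜ[P] m) := by rw [TensorProduct.smul_tmul', smul_eq_mul, mul_one]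
          rw [this]
          exact Submodule.smul_mem_smul ha trivial
        · have : b ⊗ₜ[P] m = 0 := by
            clear hab hj
            induction hb using Submodule.span_induction with
            | zero => exact TensorProduct.zero_tmul _ _
            | add x y _ _ hx hy => rw [TensorProduct.add_tmul, hx, hy, add_zero]
            | mem x hx =>
              obtain ⟨k, hk, rfl⟩ := hx
              rw [Algebra.algebraMap_eq_smul_one, TensorProduct.smul_tmul, ← algebraMap_smul A k m,
                RingHom.mem_ker.mp hk, zero_smul, TensorProduct.tmul_zero]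
            | smul c x _ hx =>
              rw [smul_eq_mul, ← smul_eq_mul, ← TensorProduct.smul_tmul', hx, smul_zero]
          rw [this]
          exact zero_mem _
    · rw [Submodule.smul_le]
      intro j hj x _
      rw [LinearMap.mem_ker, map_smul]
      have : algebraMap T A' j = 0 := by
        rw [← RingHom.mem_ker, hker]
        exact Ideal.mem_sup_left hj
      rw [← algebraMap_smul A' j (Φ x), this, zero_smul]
  haveI h1 : Module.FinitePresentation T (A' ⊗[P] M) :=
    Module.finitePresentation_of_surjective Φ hΦ (hkerΦ ▸ Submodule.FG.smul hJ Module.Finite.fg_top)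
  haveI := compatibleSMul_of_surjective P A A' M hPA
  let e : A' ⊗[A] M ≃ₗ[T] A' ⊗[P] M := TensorProduct.equivOfCompatibleSMul P A T A' M
  exact (fpVia_iff (A' ⊗[A] M)).mpr (Module.FinitePresentation.of_equiv e.symm)

/-- localisation -/
theorem fpVia_away_iff {R P A Q : Type*} [CommRing R] [CommRing P] [CommRing A] [CommRing Q]
    [Algebra R P] [Algebra R A] [Algebra R Q] [Algebra.FinitePresentation R P] [Algebra.FinitePresentation R Q]
    [Algebra P A] [IsScalarTower R P A] (hp : Function.Surjective (algebraMap P A)) (g : P) (a : A)
    (ha : algebraMap P A g = a) (q : Q →ₐ[R] Localization.Away a) (hq : q.toRingHom.Finite)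
    (M : Type*) [AddCommGroup M] [Module A M] [Module P M] [IsScalarTower P A M] :
    FPVia q.toRingHom (LocalizedModule (Submonoid.powers a) M) ↔
      Module.FinitePresentation (Localization.Away g) (LocalizedModule (Submonoid.powers g) M) := by
  subst ha
  let A' := Localization.Away (algebraMap P A g)
  let N := LocalizedModule (Submonoid.powers (algebraMap P A g)) M
  let φ : Localization.Away g →+* A' := IsLocalization.Away.map _ _ (algebraMap P A) g
  letI : Algebra (Localization.Away g) A' := φ.toAlgebra
  haveI : IsScalarTower P (Localization.Away g) A' := IsScalarTower.of_algebraMap_eq fun x => by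
    rw [RingHom.algebraMap_toAlgebra, IsScalarTower.algebraMap_apply P A A']
    exact (IsLocalization.map_eq _ x).symm
  haveI : IsScalarTower R (Localization.Away g) A' := IsScalarTower.of_algebraMap_eq fun r => by
    rw [IsScalarTower.algebraMap_apply R P (Localization.Away g) r,
      ← IsScalarTower.algebraMap_apply P (Localization.Away g) A',
      IsScalarTower.algebraMap_apply P A A', ← IsScalarTower.algebraMap_apply R P A,
      ← IsScalarTower.algebraMap_apply R A A']
  have hsurj : Function.Surjective φ := by
    intro z
    obtain ⟨⟨x, ⟨_, n, rfl⟩⟩, rfl⟩ := IsLocalization.mk'_surjective (Submonoid.powers (algebraMap P A g)) z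
    obtain ⟨x, rfl⟩ := hp x
    refine ⟨IsLocalization.mk' _ x (⟨g ^ n, n, rfl⟩ : Submonoid.powers g), ?_⟩
    refine (IsLocalization.map_mk' _ _ _).trans ?_
    congr 1
    exact Subtype.ext (map_pow _ _ _)
  haveI : Algebra.FinitePresentation P (Localization.Away g) := IsLocalization.Away.finitePresentation g
  haveI : Algebra.FinitePresentation R (Localization.Away g) :=
    Algebra.FinitePresentation.trans R P (Localization.Away g)
  rw [fpVia_indep q (IsScalarTower.toAlgHom R (Localization.Away g) A') hq
    (RingHom.Finite.of_surjective φ hsurj) (LocalizedModule (Submonoid.powers (algebraMap P A g)) M)]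
  letI : Module (Localization.Away g) N := Module.compHom N φ
  haveI : IsScalarTower (Localization.Away g) A' N := IsScalarTower.of_algebraMap_smul fun _ _ => rfl
  rw [show (IsScalarTower.toAlgHom R (Localization.Away g) A').toRingHom = algebraMap (Localization.Away g) A' from rfl,
    fpVia_iff]
  haveI : IsScalarTower P A' N := IsScalarTower.of_algebraMap_smul fun x m => by
    rw [IsScalarTower.algebraMap_apply P A A', algebraMap_smul, algebraMap_smul]
  haveI : IsScalarTower P (Localization.Away g) N := IsScalarTower.of_algebraMap_smul fun x m => by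
    show φ (algebraMap P (Localization.Away g) x) • m = x • m
    rw [show φ (algebraMap P (Localization.Away g) x) = algebraMap P A' x from
      (IsScalarTower.algebraMap_apply P (Localization.Away g) A' x).symm, algebraMap_smul]
  haveI := IsLocalizedModule.restrictScalars_powers g
    (LocalizedModule.mkLinearMap (Submonoid.powers (algebraMap P A g)) M)
  let e : LocalizedModule (Submonoid.powers g) M ≃ₗ[P] N := IsLocalizedModule.iso (Submonoid.powers g)
    ((LocalizedModule.mkLinearMap (Submonoid.powers (algebraMap P A g)) M).restrictScalars P)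
  exact (LinearEquiv.finitePresentation_iff (e.extendScalarsOfIsLocalization (Submonoid.powers g) (Localization.Away g))).symm

theorem fpVia_localization {R P A Q : Type*} [CommRing R] [CommRing P] [CommRing A] [CommRing Q]
    [Algebra R P] [Algebra R A] [Algebra R Q] [Algebra.FinitePresentation R P] [Algebra.FinitePresentation R Q]
    [Algebra P A] [IsScalarTower R P A] (hp : Function.Surjective (algebraMap P A)) (a : A)
    (q : Q →ₐ[R] Localization.Away a) (hq : q.toRingHom.Finite)
    (M : Type*) [AddCommGroup M] [Module A M] [Module P M] [IsScalarTower P A M]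
    [Module.FinitePresentation P M] :
    FPVia q.toRingHom (LocalizedModule (Submonoid.powers a) M) := by
  obtain ⟨g, hg⟩ := hp a
  exact (fpVia_away_iff hp g a hg q hq M).mpr inferInstance

end Groth.Agent.RelFP
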