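import Groth.Agent.RelFP.Perm
import Groth.Agent.QCoh.PullbackBC
import Groth.Agent.QCoh.FlatBC
import Groth.Agent.S7005

/-!
# Relative finite presentation and base change
-/

universe u

set_option backward.isDefEq.respectTransparency false
set_option backward.isDefEq.respectTransparency.types false

open CategoryTheory CategoryTheory.Limits AlgebraicGeometry TopologicalSpace Opposite
open scoped TensorProduct

namespace Groth.Agent.RelFP

attribute [local instance] MvPolynomial.algebraMvPolynomial

theorem finitePresentation_of_isPushout {R R' P T : Type u} [CommRing R] [CommRing R'] [CommRing P] [CommRing T]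
    [Algebra R R'] [Algebra R P] [Algebra R T] [Algebra R' T] [Algebra P T] [IsScalarTower R R' T]
    [IsScalarTower R P T] [Algebra.IsPushout R R' P T] {M M' : Type u} [AddCommGroup M] [Module R M] [Module P M]
    [IsScalarTower R P M] [Module.FinitePresentation P M] [AddCommGroup M'] [Module R M'] [Module R' M']
    [Module T M'] [Module P M'] [IsScalarTower P T M'] [IsScalarTower R R' M'] [IsScalarTower R' T M']
    (l : M →ₗ[R] M') (hl : IsBaseChange R' l) (lP : M →ₗ[P] M') (hlP : ∀ m, lP m = l m) :
    Module.FinitePresentation T M' := by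
  let L : T ⊗[P] M →ₗ[T] M' := LinearMap.liftBaseChange T lP
  have hL : L ∘ (Algebra.IsPushout.cancelBaseChange R R' P T M).symm = hl.equiv := funext fun z => by
    induction z using TensorProduct.induction_on with
    | zero => simp
    | tmul r m =>
      simp only [Function.comp_apply, Algebra.IsPushout.cancelBaseChange_symm_tmul, L,
        LinearMap.liftBaseChange_tmul, IsBaseChange.equiv_tmul, hlP, algebraMap_smul]
    | add a b ha hb =>
      simp only [Function.comp_apply, map_add] at ha hb ⊢
      rw [ha, hb]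
  have hbij : Function.Bijective L := by
    have : ⇑L = hl.equiv ∘ (Algebra.IsPushout.cancelBaseChange R R' P T M) := by
      rw [← hL]; funext z; simp
    rw [this]
    exact hl.equiv.bijective.comp (LinearEquiv.bijective _)
  exact Module.FinitePresentation.of_equiv (LinearEquiv.ofBijective L hbij)

section aeval

variable {R R' A A' : Type u} [CommRing R] [CommRing R'] [CommRing A] [CommRing A']
    [Algebra R R'] [Algebra R A] [Algebra R A'] [Algebra R' A'] [Algebra A A'] [IsScalarTower R R' A']
    [IsScalarTower R A A'] {n : ℕ} (φ : MvPolynomial (Fin n) R →ₐ[R] A)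

/-- The presentation after base change. -/
noncomputable def baseChangeMap : MvPolynomial (Fin n) R' →ₐ[R'] A' :=
  MvPolynomial.aeval fun i => algebraMap A A' (φ (MvPolynomial.X i))

theorem baseChangeMap_map (p : MvPolynomial (Fin n) R) :
    baseChangeMap (R' := R') (A' := A') φ (MvPolynomial.map (algebraMap R R') p) = algebraMap A A' (φ p) := by
  induction p using MvPolynomial.induction_on with
  | C r =>
    rw [MvPolynomial.map_C, baseChangeMap, MvPolynomial.aeval_C, ← IsScalarTower.algebraMap_apply,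
      IsScalarTower.algebraMap_apply R A A', ← φ.commutes]
    rfl
  | add p q hp hq => simp only [map_add, hp, hq]
  | mul_X p i hp =>
    rw [map_mul, map_mul, hp, MvPolynomial.map_X, map_mul φ, map_mul]
    congr 1
    exact MvPolynomial.aeval_X _ _

theorem baseChangeMap_surjective [hpo : Algebra.IsPushout R R' A A'] (hφ : Function.Surjective φ) :
    Function.Surjective (baseChangeMap (R' := R') (A' := A') φ) := fun a' => by
  induction a' using hpo.out.inductionOn with
  | zero => exact ⟨0, map_zero _⟩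
  | tmul x =>
    obtain ⟨p, hp⟩ := hφ x
    exact ⟨MvPolynomial.map (algebraMap R R') p, (baseChangeMap_map φ p).trans (by rw [hp]; rfl)⟩
  | smul r x hx =>
    obtain ⟨t, ht⟩ := hx
    exact ⟨r • t, by rw [map_smul, ht]⟩
  | add x y hx hy =>
    obtain ⟨t, ht⟩ := hx
    obtain ⟨s, hs⟩ := hy
    exact ⟨t + s, by rw [map_add, ht, hs]⟩

end aeval

theorem fp_baseChange_aux {R R' A A' P T : Type u} [CommRing R] [CommRing R'] [CommRing A] [CommRing A']
    [CommRing P] [CommRing T] [Algebra R P] [Algebra R T] [Algebra R' T] [Algebra P T]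
    [Algebra R R'] [Algebra R A] [Algebra R A'] [Algebra R' A'] [Algebra A A'] [IsScalarTower R R' A']
    [IsScalarTower R R' T] [IsScalarTower R P T] [Algebra.IsPushout R R' P T]
    [IsScalarTower R A A'] [Algebra.IsPushout R R' A A']
    {M : Type u} [AddCommGroup M] [Module A M] {M' : Type u} [AddCommGroup M'] [Module A' M'] [Module A M']
    [IsScalarTower A A' M'] (l : M →ₗ[A] M') (hl : IsBaseChange A' l) (φ : P →ₐ[R] A) (ψ : T →ₐ[R'] A')
    (hψ : ∀ p, ψ (algebraMap P T p) = algebraMap A A' (φ p)) (h : FPVia φ.toRingHom M) :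
    FPVia ψ.toRingHom M' := by
  letI : Module P M := Module.compHom M φ.toRingHom
  letI : Module R M := Module.compHom M (algebraMap R A)
  haveI : IsScalarTower R A M := IsScalarTower.of_algebraMap_smul fun _ _ => rfl
  haveI : IsScalarTower R P M := IsScalarTower.of_algebraMap_smul fun r m => by
    show φ (algebraMap R P r) • m = algebraMap R A r • m
    rw [φ.commutes]
  haveI : Module.FinitePresentation P M := h
  letI : Module T M' := Module.compHom M' ψ.toRingHom
  letI : Module R' M' := Module.compHom M' (algebraMap R' A')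
  haveI : IsScalarTower R' A' M' := IsScalarTower.of_algebraMap_smul fun _ _ => rfl
  haveI : IsScalarTower R' T M' := IsScalarTower.of_algebraMap_smul fun r m => by
    show ψ (algebraMap R' T r) • m = algebraMap R' A' r • m
    rw [ψ.commutes]
  letI : Module R M' := Module.compHom M' (algebraMap R A')
  haveI : IsScalarTower R R' M' := IsScalarTower.of_algebraMap_smul fun r m => by
    show algebraMap R' A' (algebraMap R R' r) • m = algebraMap R A' r • m
    rw [← IsScalarTower.algebraMap_apply]
  haveI : IsScalarTower R A M' := IsScalarTower.of_algebraMap_smul fun r m => by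
    show algebraMap R A r • m = algebraMap R A' r • m
    rw [IsScalarTower.algebraMap_apply R A A', algebraMap_smul A' (algebraMap R A r) m]
  letI : Module P M' := Module.compHom M' (algebraMap P T)
  haveI : IsScalarTower P T M' := IsScalarTower.of_algebraMap_smul fun _ _ => rfl
  exact finitePresentation_of_isPushout (R := R) (R' := R') (P := P) (l.restrictScalars R)
    (QCoh.isBaseChange_of_isPushout l hl _ fun _ => rfl)
    { toFun := l, map_add' := l.map_add, map_smul' := fun p m => by
        show l (φ p • m) = ψ (algebraMap P T p) • l m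
        rw [map_smul, hψ, algebraMap_smul] } fun _ => rfl

theorem rel_baseChange {R R' A A' : Type u} [CommRing R] [CommRing R'] [CommRing A] [CommRing A']
    [Algebra R R'] [Algebra R A] [Algebra R A'] [Algebra R' A'] [Algebra A A'] [IsScalarTower R R' A']
    [IsScalarTower R A A'] [Algebra.IsPushout R R' A A']
    {M : Type u} [AddCommGroup M] [Module A M] {M' : Type u} [AddCommGroup M'] [Module A' M'] [Module A M']
    [IsScalarTower A A' M'] (l : M →ₗ[A] M') (hl : IsBaseChange A' l)
    (h : FlatCA.RelFinitePresentation R A M) : FlatCA.RelFinitePresentation R' A' M' := by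
  obtain ⟨n, φ, hφ, hfp⟩ := h
  exact ⟨n, baseChangeMap φ, baseChangeMap_surjective φ hφ,
    fp_baseChange_aux l hl φ (baseChangeMap φ) (baseChangeMap_map φ) hfp⟩

theorem rel_pullback {R A A' : Type u} [CommRing R] [CommRing A] [CommRing A'] [Algebra R A] [Algebra R A']
    [Algebra A A'] [IsScalarTower R A A'] [Algebra.FiniteType R A] [Algebra.FinitePresentation A A']
    {M : Type u} [AddCommGroup M] [Module A M] {M' : Type u} [AddCommGroup M'] [Module A' M'] [Module A M']
    [IsScalarTower A A' M'] (l : M →ₗ[A] M') (hl : IsBaseChange A' l)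
    (h : FlatCA.RelFinitePresentation R A M) : FlatCA.RelFinitePresentation R A' M' := by
  obtain ⟨n, φ, hφ, hfp⟩ := h
  haveI : Algebra.FiniteType R A' := Algebra.FiniteType.trans (inferInstance : Algebra.FiniteType R A)
    (inferInstance : Algebra.FiniteType A A')
  obtain ⟨k, γ, hγ⟩ := Algebra.FiniteType.iff_quotient_mvPolynomial''.1 ‹Algebra.FiniteType R A'›
  refine ⟨k, γ, hγ, ?_⟩
  exact (fpVia_equiv (q := γ.toRingHom) (q' := γ.toRingHom) hl.equiv.toAddEquiv
    fun x m => map_smul hl.equiv (γ x) m).1 (Groth.Agent.S7005.result M φ hφ hfp γ hγ)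

variable {X X' : Scheme.{u}} (φ : X' ⟶ X) (G : X.Modules) {U : X.Opens} {W : X'.Opens} (hle : W ≤ φ ⁻¹ᵁ U)

/-- The module structure on sections of an inverse image over a smaller open. -/
noncomputable abbrev pullModule : Module Γ(X, U) Γ((Scheme.Modules.pullback φ).obj G, W) :=
  Module.compHom _ (φ.appLE U W hle).hom

/-- Pulling back sections, as a linear map. -/
noncomputable def pullLin :
    letI := pullModule φ G hle; Γ(G, U) →ₗ[Γ(X, U)] Γ((Scheme.Modules.pullback φ).obj G, W) :=
  letI := pullModule φ G hle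
  { toFun := QCoh.pullSec φ G hle, map_add' := QCoh.pullSec_add φ G hle,
    map_smul' := QCoh.pullSec_smul φ G hle }

theorem relFPOn_pullback {S : Scheme.{u}} (f : X' ⟶ X) (g : X ⟶ S) [LocallyOfFinitePresentation f]
    [LocallyOfFiniteType g] (G : X.Modules) (hG : Coh.IsQCoh G) (U : X'.affineOpens) (W : X.affineOpens)
    (V : S.affineOpens) (h : (U : X'.Opens) ≤ f ⁻¹ᵁ W.1) (h' : (W : X.Opens) ≤ g ⁻¹ᵁ V.1)
    (hP : Flatn.RelFPOn g G W V h') :
    Flatn.RelFPOn (f ≫ g) ((Scheme.Modules.pullback f).obj G) U V (h.trans (f.preimage_mono h')) := by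
  letI := (g.appLE V.1 W.1 h').hom.toAlgebra
  letI := ((f ≫ g).appLE V.1 U.1 (h.trans (f.preimage_mono h'))).hom.toAlgebra
  letI := (f.appLE W.1 U.1 h).hom.toAlgebra
  haveI : Algebra.FiniteType Γ(S, V.1) Γ(X, W.1) := g.finiteType_appLE V.2 W.2 h'
  haveI : Algebra.FinitePresentation Γ(X, W.1) Γ(X', U.1) := f.finitePresentation_appLE W.2 U.2 h
  haveI : IsScalarTower Γ(S, V.1) Γ(X, W.1) Γ(X', U.1) := IsScalarTower.of_algebraMap_eq fun r => by
    show _ = (g.appLE V.1 W.1 h' ≫ f.appLE W.1 U.1 h) r
    rw [Scheme.Hom.appLE_comp_appLE]; rfl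
  letI := pullModule f G h
  haveI : IsScalarTower Γ(X, W.1) Γ(X', U.1) Γ((Scheme.Modules.pullback f).obj G, U.1) :=
    IsScalarTower.of_algebraMap_smul fun _ _ => rfl
  exact rel_pullback (M := Γ(G, W.1)) (M' := Γ((Scheme.Modules.pullback f).obj G, U.1)) (pullLin f G h)
    (QCoh.isBaseChange_pullback W.2 f U.2 hG h (fun _ => rfl) _ fun _ => rfl) hP

theorem relFPOn_baseChange {S S' X' : Scheme.{u}} {f : X ⟶ S} {g : S' ⟶ S} {f' : X' ⟶ S'} {g' : X' ⟶ X}
    (H : IsPullback g' f' f g) (F : X.Modules) (hF : Coh.IsQCoh F)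
    (UX : X.affineOpens) (US : S.affineOpens) (UT : S'.affineOpens) (UY : X'.affineOpens)
    (hUST : (UT : S'.Opens) ≤ g ⁻¹ᵁ US.1) (hUSX : (UX : X.Opens) ≤ f ⁻¹ᵁ US.1)
    (hUY : (UY : X'.Opens) = g' ⁻¹ᵁ UX.1 ⊓ f' ⁻¹ᵁ UT.1)
    (hP : Flatn.RelFPOn f F UX US hUSX) :
    Flatn.RelFPOn f' ((Scheme.Modules.pullback g').obj F) UY UT (hUY.le.trans inf_le_right) := by
  letI := (f.appLE US.1 UX.1 hUSX).hom.toAlgebra
  letI := (g.appLE US.1 UT.1 hUST).hom.toAlgebra
  letI := (f'.appLE UT.1 UY.1 (hUY.le.trans inf_le_right)).hom.toAlgebra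
  letI := (g'.appLE UX.1 UY.1 (hUY.le.trans inf_le_left)).hom.toAlgebra
  letI : Algebra Γ(S, US.1) Γ(X', UY.1) :=
    ((f'.appLE UT.1 UY.1 (hUY.le.trans inf_le_right)).hom.comp (g.appLE US.1 UT.1 hUST).hom).toAlgebra
  haveI : IsScalarTower Γ(S, US.1) Γ(S', UT.1) Γ(X', UY.1) := IsScalarTower.of_algebraMap_eq fun _ => rfl
  have hpo := (isIso_pushoutSection_iff H hUST hUSX hUY).1
    (isIso_pushoutSection_of_isAffineOpen H hUST hUSX hUY US.2 UT.2 UX.2)
  haveI : IsScalarTower Γ(S, US.1) Γ(X, UX.1) Γ(X', UY.1) := IsScalarTower.of_algebraMap_eq fun r =>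
    (congr($(hpo.w) r)).symm
  haveI : Algebra.IsPushout Γ(S, US.1) Γ(S', UT.1) Γ(X, UX.1) Γ(X', UY.1) :=
    CommRingCat.isPushout_iff_isPushout.1 hpo.flip
  letI := pullModule g' F (hUY.le.trans inf_le_left)
  haveI : IsScalarTower Γ(X, UX.1) Γ(X', UY.1) Γ((Scheme.Modules.pullback g').obj F, UY.1) :=
    IsScalarTower.of_algebraMap_smul fun _ _ => rfl
  exact rel_baseChange (M := Γ(F, UX.1)) (M' := Γ((Scheme.Modules.pullback g').obj F, UY.1)) (pullLin g' F (hUY.le.trans inf_le_left))
    (QCoh.isBaseChange_pullback UX.2 g' UY.2 hF _ (fun _ => rfl) _ fun _ => rfl) hP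

end Groth.Agent.RelFP
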