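import Groth.Agent.RelFP.Basic
import Groth.Prelude.Def_Flatn
import Groth.Agent.QCoh.FT

/-!
# Relative finite presentation on arbitrary pairs of affine opens
-/

universe u

set_option backward.isDefEq.respectTransparency false
set_option backward.isDefEq.respectTransparency.types false

open CategoryTheory CategoryTheory.Limits AlgebraicGeometry TopologicalSpace Opposite

namespace Groth.Agent.RelFP

section Ring

theorem fpVia_equiv {Q A A' : Type*} [CommRing Q] [CommRing A] [CommRing A'] {q : Q →+* A} {q' : Q →+* A'}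
    {N N' : Type*} [AddCommGroup N] [Module A N] [AddCommGroup N'] [Module A' N'] (e : N ≃+ N')
    (h : ∀ x n, e (q x • n) = q' x • e n) : FPVia q N ↔ FPVia q' N' := by
  letI : Module Q N := Module.compHom N q
  letI : Module Q N' := Module.compHom N' q'
  exact LinearEquiv.finitePresentation_iff { e with map_smul' := h }

variable {R S : Type u} [CommRing R] [CommRing S] [Algebra R S]

theorem rel_iff {N : Type u} [AddCommGroup N] [Module S N] [Algebra.FiniteType R S] {Q : Type u} [CommRing Q]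
    [Algebra R Q] [Algebra.FinitePresentation R Q] (q : Q →ₐ[R] S) (hq : q.toRingHom.Finite) :
    FlatCA.RelFinitePresentation R S N ↔ FPVia q.toRingHom N := by
  constructor
  · rintro ⟨n, φ, hφ, h⟩
    exact (fpVia_indep φ q (RingHom.Finite.of_surjective _ hφ) hq N).1 h
  · intro h
    obtain ⟨n, φ, hφ⟩ := Algebra.FiniteType.iff_quotient_mvPolynomial''.1 ‹Algebra.FiniteType R S›
    exact ⟨n, φ, hφ, (fpVia_indep φ q (RingHom.Finite.of_surjective _ hφ) hq N).2 h⟩

theorem rel_iff_of_finitePresentation (R' : Type u) [CommRing R'] [Algebra R R'] [Algebra R' S]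
    [IsScalarTower R R' S] [Algebra.FinitePresentation R R'] [Algebra.FiniteType R S]
    {N : Type u} [AddCommGroup N] [Module S N] :
    FlatCA.RelFinitePresentation R S N ↔ FlatCA.RelFinitePresentation R' S N := by
  haveI : Algebra.FiniteType R' S := Algebra.FiniteType.of_restrictScalars_finiteType R R' S
  obtain ⟨n, φ, hφ⟩ := Algebra.FiniteType.iff_quotient_mvPolynomial''.1 ‹Algebra.FiniteType R' S›
  haveI : Algebra.FinitePresentation R (MvPolynomial (Fin n) R') := Algebra.FinitePresentation.trans R R' _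
  rw [rel_iff φ (RingHom.Finite.of_surjective _ hφ),
    rel_iff (φ.restrictScalars R) (RingHom.Finite.of_surjective _ hφ)]
  rfl

variable {N : Type u} [AddCommGroup N] [Module S N] [Algebra.FiniteType R S]
  (S' : Type u) [CommRing S'] [Algebra S S'] [Algebra R S'] [IsScalarTower R S S']
  {N' : Type u} [AddCommGroup N'] [Module S N'] [Module S' N'] [IsScalarTower S S' N']

theorem rel_away_iff {n : ℕ} (φ : MvPolynomial (Fin n) R →ₐ[R] S) (hφ : Function.Surjective φ)
    (g : MvPolynomial (Fin n) R) [IsLocalization.Away (φ g) S'] (ℓ : N →ₗ[S] N')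
    [IsLocalizedModule (Submonoid.powers (φ g)) ℓ] :
    FlatCA.RelFinitePresentation R S' N' ↔
      (letI : Module (MvPolynomial (Fin n) R) N := Module.compHom N φ.toRingHom
       Module.FinitePresentation (Localization.Away g) (LocalizedModule (Submonoid.powers g) N)) := by
  letI : Algebra (MvPolynomial (Fin n) R) S := φ.toRingHom.toAlgebra
  letI : Module (MvPolynomial (Fin n) R) N := Module.compHom N φ.toRingHom
  haveI : IsScalarTower (MvPolynomial (Fin n) R) S N := IsScalarTower.of_algebraMap_smul fun _ _ => rfl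
  haveI : IsScalarTower R (MvPolynomial (Fin n) R) S :=
    IsScalarTower.of_algebraMap_eq fun r => (φ.commutes r).symm
  haveI : Algebra.FinitePresentation S S' := IsLocalization.Away.finitePresentation (φ g)
  haveI : Algebra.FiniteType R S' := Algebra.FiniteType.trans (inferInstance : Algebra.FiniteType R S)
    (inferInstance : Algebra.FiniteType S S')
  obtain ⟨m, q, hq⟩ := Algebra.FiniteType.iff_quotient_mvPolynomial''.1 ‹Algebra.FiniteType R S'›
  rw [rel_iff q (RingHom.Finite.of_surjective _ hq)]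
  let eS : S' ≃ₐ[S] Localization.Away (φ g) := IsLocalization.algEquiv (Submonoid.powers (φ g)) _ _
  let e : N' ≃ₗ[S] LocalizedModule (Submonoid.powers (φ g)) N :=
    (IsLocalizedModule.iso (Submonoid.powers (φ g)) ℓ).symm
  have he : ∀ (x : S') (v : N'), e (x • v) = eS x • e v := fun x v => by
    obtain ⟨⟨s, t⟩, hx⟩ := IsLocalization.surj (Submonoid.powers (φ g)) x
    refine (Module.End.isUnit_iff _).1 (IsLocalizedModule.map_units
      (LocalizedModule.mkLinearMap (Submonoid.powers (φ g)) N) t) |>.1 ?_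
    show (t : S) • e (x • v) = (t : S) • (eS x • e v)
    have h1 : (t : S) • x = algebraMap S S' s := by rw [Algebra.smul_def, mul_comm]; exact hx
    rw [← map_smul, ← smul_assoc, ← smul_assoc, ← map_smul eS, h1, algebraMap_smul, eS.commutes,
      algebraMap_smul, map_smul]
  let q' : MvPolynomial (Fin m) R →ₐ[R] Localization.Away (φ g) :=
    (eS.restrictScalars R).toAlgHom.comp q
  rw [fpVia_equiv (q' := q'.toRingHom) e.toAddEquiv fun x v => he (q x) v]
  exact fpVia_away_iff (A := S) hφ g (φ g) rfl q'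
    (RingHom.Finite.of_surjective _ (eS.surjective.comp hq)) N

theorem rel_away (a : S) [IsLocalization.Away a S'] (ℓ : N →ₗ[S] N')
    [IsLocalizedModule (Submonoid.powers a) ℓ] (h : FlatCA.RelFinitePresentation R S N) :
    FlatCA.RelFinitePresentation R S' N' := by
  obtain ⟨n, φ, hφ, hfp⟩ := h
  obtain ⟨g, rfl⟩ := hφ a
  rw [rel_away_iff S' φ hφ g ℓ]
  letI : Module (MvPolynomial (Fin n) R) N := Module.compHom N φ.toRingHom
  haveI : Module.FinitePresentation (MvPolynomial (Fin n) R) N := hfp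
  exact Module.FinitePresentation.of_equiv
    (M := TensorProduct (MvPolynomial (Fin n) R) (Localization.Away g) N)
    (LocalizedModule.equivTensorProduct (Submonoid.powers g) N).symm

theorem rel_glue (s : Set S) (hs : Ideal.span s = ⊤) {Sa : s → Type u} [∀ a, CommRing (Sa a)]
    [∀ a, Algebra S (Sa a)] [∀ a, Algebra R (Sa a)] [∀ a, IsScalarTower R S (Sa a)]
    {Na : s → Type u} [∀ a, AddCommGroup (Na a)] [∀ a, Module S (Na a)] [∀ a, Module (Sa a) (Na a)]
    [∀ a, IsScalarTower S (Sa a) (Na a)] [∀ a : s, IsLocalization.Away (a : S) (Sa a)]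
    (ℓ : ∀ a : s, N →ₗ[S] Na a) [∀ a : s, IsLocalizedModule (Submonoid.powers (a : S)) (ℓ a)]
    (h : ∀ a : s, FlatCA.RelFinitePresentation R (Sa a) (Na a)) :
    FlatCA.RelFinitePresentation R S N := by
  obtain ⟨n, φ, hφ⟩ := Algebra.FiniteType.iff_quotient_mvPolynomial''.1 ‹Algebra.FiniteType R S›
  refine ⟨n, φ, hφ, ?_⟩
  letI : Module (MvPolynomial (Fin n) R) N := Module.compHom N φ.toRingHom
  let T : Set (MvPolynomial (Fin n) R) := φ ⁻¹' s ∪ RingHom.ker φ.toRingHom
  refine Module.FinitePresentation.of_localizationSpan T ?_ ?_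
  · rw [← Ideal.comap_top (f := φ.toRingHom), ← hs]
    refine le_antisymm (Ideal.span_le.2 ?_) ?_
    · rintro x (hx | hx)
      · exact Ideal.subset_span hx
      · show φ x ∈ Ideal.span s
        rw [show φ x = 0 from hx]
        exact zero_mem _
    · have : Ideal.span s = (Ideal.span T).map φ.toRingHom := by
        refine le_antisymm (Ideal.span_le.2 fun a ha => ?_) ?_
        · obtain ⟨g, rfl⟩ := hφ a
          exact Ideal.mem_map_of_mem _ (Ideal.subset_span (Or.inl ha))
        · rw [Ideal.map_span, Ideal.span_le]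
          rintro _ ⟨x, hx | hx, rfl⟩
          · exact Ideal.subset_span hx
          · rw [show φ.toRingHom x = 0 from hx]; exact zero_mem _
      rw [this, Ideal.comap_map_of_surjective φ.toRingHom hφ]
      exact sup_le le_rfl fun x hx => Ideal.subset_span (Or.inr (by simpa using hx))
  · rintro ⟨g, hg | hg⟩
    · obtain ⟨a, ha⟩ : ∃ a : s, φ g = a := ⟨⟨φ g, hg⟩, rfl⟩
      haveI : IsLocalization.Away (φ g) (Sa a) := ha ▸ inferInstance
      haveI : IsLocalizedModule (Submonoid.powers (φ g)) (ℓ a) := ha ▸ inferInstance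
      exact (rel_away_iff (Sa a) φ hφ g (ℓ a)).1 (h a)
    · haveI : Subsingleton (LocalizedModule (Submonoid.powers g) N) := by
        refine LocalizedModule.subsingleton_iff.2 fun m => ⟨g, ⟨1, pow_one g⟩, ?_⟩
        show φ g • m = 0
        rw [show φ g = 0 from hg, zero_smul]
      infer_instance

end Ring

section Scheme

variable {X S : Scheme.{u}} {f : X ⟶ S} [LocallyOfFiniteType f] {F : X.Modules} [hF : Coh.IsQCoh F]

/-- Relative finite presentation descends to basic opens of the source. -/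
theorem relFPOn_basicOpen {U : X.affineOpens} {V : S.affineOpens} {h : (U : X.Opens) ≤ f ⁻¹ᵁ V.1}
    (hP : Flatn.RelFPOn f F U V h) (a : Γ(X, U.1)) :
    Flatn.RelFPOn f F (X.affineBasicOpen a) V ((X.basicOpen_le a).trans h) := by
  letI := (f.appLE V.1 U.1 h).hom.toAlgebra
  letI := (f.appLE V.1 (X.basicOpen a) ((X.basicOpen_le a).trans h)).hom.toAlgebra
  haveI : Algebra.FiniteType Γ(S, V.1) Γ(X, U.1) := f.finiteType_appLE V.2 U.2 h
  haveI : IsScalarTower Γ(S, V.1) Γ(X, U.1) Γ(X, X.basicOpen a) := IsScalarTower.of_algebraMap_eq fun r => by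
    show _ = (f.appLE V.1 U.1 h ≫ X.presheaf.map (homOfLE (X.basicOpen_le a)).op) r
    rw [Scheme.Hom.appLE_map]; rfl
  letI := QCoh.basicModule a F
  haveI := U.2.isLocalization_basicOpen a
  haveI := QCoh.isLocalizedModule_basicRes a hF U.2
  haveI : IsScalarTower Γ(X, U.1) Γ(X, X.basicOpen a) Γ(F, X.basicOpen a) :=
    IsScalarTower.of_algebraMap_smul fun _ _ => rfl
  exact rel_away (N := Γ(F, U.1)) (N' := Γ(F, X.basicOpen a)) Γ(X, X.basicOpen a) a (QCoh.basicRes a F) hP

/-- Relative finite presentation is local on the source. -/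
theorem relFPOn_of_span (U : X.affineOpens) (V : S.affineOpens) (h : (U : X.Opens) ≤ f ⁻¹ᵁ V.1)
    (s : Set Γ(X, U.1)) (hs : Ideal.span s = ⊤)
    (hP : ∀ a ∈ s, Flatn.RelFPOn f F (X.affineBasicOpen a) V ((X.basicOpen_le a).trans h)) :
    Flatn.RelFPOn f F U V h := by
  letI := (f.appLE V.1 U.1 h).hom.toAlgebra
  letI := fun a : s => (f.appLE V.1 (X.basicOpen a.1) ((X.basicOpen_le a.1).trans h)).hom.toAlgebra
  haveI : Algebra.FiniteType Γ(S, V.1) Γ(X, U.1) := f.finiteType_appLE V.2 U.2 h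
  haveI : ∀ a : s, IsScalarTower Γ(S, V.1) Γ(X, U.1) Γ(X, X.basicOpen a.1) :=
    fun a => IsScalarTower.of_algebraMap_eq fun r => by
      show _ = (f.appLE V.1 U.1 h ≫ X.presheaf.map (homOfLE (X.basicOpen_le a.1)).op) r
      rw [Scheme.Hom.appLE_map]; rfl
  letI := fun a : s => QCoh.basicModule a.1 F
  haveI := fun a : s => U.2.isLocalization_basicOpen a.1
  haveI := fun a : s => QCoh.isLocalizedModule_basicRes a.1 hF U.2
  haveI : ∀ a : s, IsScalarTower Γ(X, U.1) Γ(X, X.basicOpen a.1) Γ(F, X.basicOpen a.1) :=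
    fun a => IsScalarTower.of_algebraMap_smul fun _ _ => rfl
  exact rel_glue s hs (Sa := fun a : s => Γ(X, X.basicOpen a.1)) (fun a : s => QCoh.basicRes a.1 F)
    fun a => hP a.1 a.2

/-- Relative finite presentation only depends on the target up to basic opens. -/
theorem relFPOn_target_basicOpen (U : X.affineOpens) (V : S.affineOpens) (r : Γ(S, V.1))
    (h : (U : X.Opens) ≤ f ⁻¹ᵁ S.basicOpen r) :
    Flatn.RelFPOn f F U V (h.trans ((Opens.map f.base).monotone (S.basicOpen_le r))) ↔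
      Flatn.RelFPOn f F U (S.affineBasicOpen r) h := by
  letI := (f.appLE V.1 U.1 (h.trans ((Opens.map f.base).monotone (S.basicOpen_le r)))).hom.toAlgebra
  letI := (f.appLE (S.basicOpen r) U.1 h).hom.toAlgebra
  haveI : Algebra.FiniteType Γ(S, V.1) Γ(X, U.1) := f.finiteType_appLE V.2 U.2 _
  haveI := V.2.isLocalization_basicOpen r
  haveI : Algebra.FinitePresentation Γ(S, V.1) Γ(S, S.basicOpen r) := IsLocalization.Away.finitePresentation r
  haveI : IsScalarTower Γ(S, V.1) Γ(S, S.basicOpen r) Γ(X, U.1) := IsScalarTower.of_algebraMap_eq fun x => by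
    show _ = (S.presheaf.map (homOfLE (S.basicOpen_le r)).op ≫ f.appLE (S.basicOpen r) U.1 h) x
    rw [Scheme.Hom.map_appLE]; rfl
  exact rel_iff_of_finitePresentation Γ(S, S.basicOpen r)

theorem relFPOn_congr {U U' : X.affineOpens} {V V' : S.affineOpens} (eU : (U : X.Opens) = U')
    (eV : (V : S.Opens) = V') {h : (U : X.Opens) ≤ f ⁻¹ᵁ V.1} {h' : (U' : X.Opens) ≤ f ⁻¹ᵁ V'.1}
    (hP : Flatn.RelFPOn f F U V h) : Flatn.RelFPOn f F U' V' h' := by
  obtain rfl : U = U' := Subtype.ext eU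
  obtain rfl : V = V' := Subtype.ext eV
  exact hP

/-- Around every point, a good pair is good for any other pair. -/
theorem exists_basicOpen_relFPOn {U U₀ : X.affineOpens} {V V₀ : S.affineOpens}
    (h : (U : X.Opens) ≤ f ⁻¹ᵁ V.1) {h₀ : (U₀ : X.Opens) ≤ f ⁻¹ᵁ V₀.1} (hP : Flatn.RelFPOn f F U₀ V₀ h₀)
    (x : X) (hx : x ∈ U.1) (hx₀ : x ∈ U₀.1) :
    ∃ a : Γ(X, U.1), x ∈ X.basicOpen a ∧
      Flatn.RelFPOn f F (X.affineBasicOpen a) V ((X.basicOpen_le a).trans h) := by
  obtain ⟨r, r₀, er, hr⟩ := exists_basicOpen_le_affine_inter V.2 V₀.2 (f x) ⟨h hx, h₀ hx₀⟩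
  obtain ⟨b, hb, hxb⟩ := U₀.2.exists_basicOpen_le (V := f ⁻¹ᵁ S.basicOpen r₀) ⟨x, er ▸ hr⟩ hx₀
  obtain ⟨a, c, ea, ha⟩ := exists_basicOpen_le_affine_inter U.2 (U₀.2.basicOpen b) x ⟨hx, hxb⟩
  refine ⟨a, ha, ?_⟩
  have h1 : X.basicOpen b ≤ f ⁻¹ᵁ S.basicOpen r₀ := hb
  have h2 := relFPOn_basicOpen (U := X.affineBasicOpen b) (V := S.affineBasicOpen r₀)
    ((relFPOn_target_basicOpen (X.affineBasicOpen b) V₀ r₀ h1).1
      (relFPOn_basicOpen hP b)) c
  have h3 : X.basicOpen a ≤ f ⁻¹ᵁ S.basicOpen r := by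
    rw [ea, er]; exact (X.basicOpen_le c).trans h1
  refine (relFPOn_target_basicOpen (X.affineBasicOpen a) V r h3).2 ?_
  exact relFPOn_congr ea.symm er.symm h2

/-- Relative finite presentation on all pairs of affine opens. -/
theorem relFPOn_of_isRelFP (hP : Flatn.IsRelFP f F) (U : X.affineOpens) (V : S.affineOpens)
    (h : (U : X.Opens) ≤ f ⁻¹ᵁ V.1) : Flatn.RelFPOn f F U V h := by
  refine relFPOn_of_span U V h
    {a | Flatn.RelFPOn f F (X.affineBasicOpen a) V ((X.basicOpen_le a).trans h)}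
    (U.2.self_le_iSup_basicOpen_iff.1 fun x hx => ?_) fun a ha => ha
  obtain ⟨𝒱, h𝒱, hP⟩ := hP
  obtain ⟨V₀, hV₀, hfx⟩ : ∃ V₀ ∈ 𝒱, f x ∈ (V₀ : S.Opens) := by
    have : f x ∈ (⊤ : S.Opens) := trivial
    rw [← h𝒱] at this
    simpa only [Opens.mem_iSup, exists_prop] using this
  obtain ⟨𝒰, h𝒰, hP⟩ := hP V₀ hV₀
  obtain ⟨U₀, hU₀, hx₀⟩ : ∃ U₀ ∈ 𝒰, x ∈ (U₀ : X.Opens) := by
    have : x ∈ f ⁻¹ᵁ V₀.1 := hfx
    rw [← h𝒰] at this
    simpa only [Opens.mem_iSup, exists_prop] using this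
  have h₀ : (U₀ : X.Opens) ≤ f ⁻¹ᵁ V₀.1 := h𝒰 ▸ le_iSup₂ (f := fun U (_ : U ∈ 𝒰) => (U : X.Opens)) U₀ hU₀
  obtain ⟨a, ha, hPa⟩ := exists_basicOpen_relFPOn h (hP U₀ hU₀ h₀) x hx hx₀
  exact Opens.mem_iSup.2 ⟨⟨a, hPa⟩, ha⟩

theorem isRelFP_of_forall (hP : ∀ (U : X.affineOpens) (V : S.affineOpens) (h : (U : X.Opens) ≤ f ⁻¹ᵁ V.1),
    Flatn.RelFPOn f F U V h) : Flatn.IsRelFP f F := by
  refine ⟨Set.univ, by simpa using iSup_affineOpens_eq_top S, fun V _ => ⟨{U | (U : X.Opens) ≤ f ⁻¹ᵁ V.1},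
    le_antisymm (iSup₂_le fun U hU => hU) fun x hx => ?_, fun U _ h => hP U V h⟩⟩
  obtain ⟨W, hW, hxW, hWle⟩ := exists_isAffineOpen_mem_and_subset (U := f ⁻¹ᵁ V.1) hx
  exact Opens.mem_iSup.2 ⟨⟨W, hW⟩, Opens.mem_iSup.2 ⟨hWle, hxW⟩⟩

end Scheme

end Groth.Agent.RelFP
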